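import Mathlib
import Cfsg.Agent.FT.PF2Dade
import Cfsg.Agent.Ch.Linear

/-! # Cyclic TI-subsets (section 3): the hypothesis and the linear characters of `W` -/

set_option autoImplicit false

namespace Cfsg.Agent.FT

open Cfsg Classical

universe u

variable {G : Type u} [Group G]

/-- `W = W₁ × W₂` is a cyclic group of odd order with nontrivial factors. -/
structure CycDprod (W₁ W₂ : Subgroup G) : Prop where
  ne_bot₁ : W₁ ≠ ⊥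
  ne_bot₂ : W₂ ≠ ⊥
  disjoint : W₁ ⊓ W₂ = ⊥
  comm : ∀ a ∈ W₁, ∀ b ∈ W₂, a * b = b * a
  cyclic : IsCyclic ↥(W₁ ⊔ W₂)
  odd : Odd (Nat.card ↥(W₁ ⊔ W₂))

/-- Hypothesis (3.1). -/
structure CycTI (W₁ W₂ : Subgroup G) : Prop where
  sn : IsSelfNormalizingCyclic W₁ W₂
  odd : Odd (Nat.card ↥(W₁ ⊔ W₂))

/-- The set `V = W - (W₁ ∪ W₂)`. -/
def cycV (W₁ W₂ : Subgroup G) : Set G := (↑(W₁ ⊔ W₂) : Set G) \ (↑W₁ ∪ ↑W₂)

/-- The linear character `ω_ij` of `W = W₁ × W₂`, as a function on the ambient group (zero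
off `W`). -/
noncomputable def omega {W₁ W₂ : Subgroup G} (i : W₁ →* ℂˣ) (j : W₂ →* ℂˣ) : G → ℂ :=
  fun g => if h : ∃ p : W₁ × W₂, (p.1 : G) * p.2 = g then
    (i h.choose.1 : ℂ) * (j h.choose.2 : ℂ) else 0

variable {W₁ W₂ : Subgroup G}

section LinGroup

/-! Group laws for linear characters (`simp` does not find them by itself). -/

variable {H : Type*} [Group H]

theorem lc_inv_one : (1 : H →* ℂˣ)⁻¹ = 1 := inv_one (G := H →* ℂˣ)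

theorem lc_inv_inv (i : H →* ℂˣ) : i⁻¹⁻¹ = i := inv_inv (G := H →* ℂˣ) i

theorem lc_mul_one (i : H →* ℂˣ) : i * 1 = i := mul_one (M := H →* ℂˣ) i

theorem lc_one_mul (i : H →* ℂˣ) : 1 * i = i := one_mul (M := H →* ℂˣ) i

theorem lc_mul_comm (i j : H →* ℂˣ) : i * j = j * i := mul_comm (G := H →* ℂˣ) i j

theorem lc_mul_assoc (i j k : H →* ℂˣ) : i * j * k = i * (j * k) := mul_assoc (G := H →* ℂˣ) i j k

theorem lc_inv_mul_cancel (i : H →* ℂˣ) : i⁻¹ * i = 1 := inv_mul_cancel (G := H →* ℂˣ) i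

theorem lc_mul_inv_cancel (i : H →* ℂˣ) : i * i⁻¹ = 1 := mul_inv_cancel (G := H →* ℂˣ) i

theorem lc_inv_eq_one {i : H →* ℂˣ} : i⁻¹ = 1 ↔ i = 1 := inv_eq_one (α := H →* ℂˣ)

theorem lc_inv_inj {i j : H →* ℂˣ} : i⁻¹ = j⁻¹ ↔ i = j := inv_inj (G := H →* ℂˣ)

theorem lc_inv_eq_iff {i j : H →* ℂˣ} : i⁻¹ = j ↔ i = j⁻¹ := inv_eq_iff_eq_inv (G := H →* ℂˣ)

theorem lc_mul_left_cancel {i j k : H →* ℂˣ} : i * j = i * k ↔ j = k :=
  mul_right_inj (G := H →* ℂˣ) i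

theorem lc_mul_right_cancel {i j k : H →* ℂˣ} : j * i = k * i ↔ j = k :=
  mul_left_inj (G := H →* ℂˣ) i

end LinGroup

theorem cycV_comm (W₁ W₂ : Subgroup G) : cycV W₂ W₁ = cycV W₁ W₂ := by
  rw [cycV, cycV, sup_comm, Set.union_comm]

theorem mem_cycV_iff {g : G} : g ∈ cycV W₁ W₂ ↔ g ∈ W₁ ⊔ W₂ ∧ g ∉ W₁ ∧ g ∉ W₂ := by
  simp [cycV, not_or]

theorem one_not_mem_cycV : (1 : G) ∉ cycV W₁ W₂ := fun h => (mem_cycV_iff.mp h).2.1 (one_mem _)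

theorem mul_eq_mul_of_disjoint (hd : W₁ ⊓ W₂ = ⊥) {x x' y y' : G} (hx : x ∈ W₁) (hx' : x' ∈ W₁)
    (hy : y ∈ W₂) (hy' : y' ∈ W₂) (h : x * y = x' * y') : x = x' ∧ y = y' := by
  have h1 : x'⁻¹ * x = y' * y⁻¹ := by
    calc x'⁻¹ * x = x'⁻¹ * (x * y) * y⁻¹ := by group
      _ = y' * y⁻¹ := by rw [h]; group
  have h2 : x'⁻¹ * x ∈ W₁ ⊓ W₂ :=
    ⟨W₁.mul_mem (W₁.inv_mem hx') hx, h1 ▸ W₂.mul_mem hy' (W₂.inv_mem hy)⟩
  rw [hd, Subgroup.mem_bot, inv_mul_eq_one] at h2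
  refine ⟨h2.symm, ?_⟩
  rw [h2] at h
  exact mul_left_cancel h

theorem omega_mul (hd : W₁ ⊓ W₂ = ⊥) (i : W₁ →* ℂˣ) (j : W₂ →* ℂˣ) (x : W₁) (y : W₂) :
    omega i j (x * y) = (i x : ℂ) * (j y : ℂ) := by
  have h : ∃ p : W₁ × W₂, (p.1 : G) * p.2 = x * y := ⟨(x, y), rfl⟩
  obtain ⟨h1, h2⟩ := mul_eq_mul_of_disjoint hd h.choose.1.2 x.2 h.choose.2.2 y.2 h.choose_spec
  rw [omega, dif_pos h, Subtype.ext h1, Subtype.ext h2]

theorem omega_of_not_mem (i : W₁ →* ℂˣ) (j : W₂ →* ℂˣ) {g : G} (hg : g ∉ W₁ ⊔ W₂) :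
    omega i j g = 0 := by
  rw [omega, dif_neg]
  rintro ⟨p, rfl⟩
  exact hg (Subgroup.mul_mem_sup p.1.2 p.2.2)

theorem CycTI.dprod (h : CycTI W₁ W₂) : CycDprod W₁ W₂ :=
  ⟨h.sn.1, h.sn.2.1, h.sn.2.2.1, h.sn.2.2.2.1, h.sn.2.2.2.2.1, h.odd⟩

theorem CycTI.symm (h : CycTI W₁ W₂) : CycTI W₂ W₁ := by
  obtain ⟨⟨h1, h2, h3, h4, h5, h6⟩, h7⟩ := h
  refine ⟨⟨h2, h1, by rw [inf_comm, h3], fun a ha b hb => (h4 b hb a ha).symm, ?_, ?_⟩, ?_⟩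
  · rwa [sup_comm]
  · rwa [sup_comm, Set.union_comm]
  · rwa [sup_comm]

theorem CycDprod.symm (h : CycDprod W₁ W₂) : CycDprod W₂ W₁ := by
  obtain ⟨h1, h2, h3, h4, h5, h7⟩ := h
  refine ⟨h2, h1, by rw [inf_comm, h3], fun a ha b hb => (h4 b hb a ha).symm, ?_, ?_⟩
  · rwa [sup_comm]
  · rwa [sup_comm]

namespace CycDprod

theorem dprod (h : CycDprod W₁ W₂) : Dprod W₁ W₂ (W₁ ⊔ W₂) :=
  ⟨rfl, h.disjoint, le_cent_iff.mpr fun b hb a ha => (h.comm a ha b hb).symm⟩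

theorem finite_sup (h : CycDprod W₁ W₂) : Finite ↥(W₁ ⊔ W₂) :=
  Nat.finite_of_card_ne_zero h.odd.pos.ne'

theorem finite₁ (h : CycDprod W₁ W₂) : Finite W₁ :=
  have := h.finite_sup
  Finite.of_injective _ (Subgroup.inclusion_injective (le_sup_left : W₁ ≤ W₁ ⊔ W₂))

theorem finite₂ (h : CycDprod W₁ W₂) : Finite W₂ := h.symm.finite₁

theorem mem_sup (h : CycDprod W₁ W₂) {g : G} :
    g ∈ W₁ ⊔ W₂ ↔ ∃ x ∈ W₁, ∃ y ∈ W₂, g = x * y := by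
  rw [h.dprod.mem_iff]
  simp only [eq_comm]

theorem mul_mem₁_iff (h : CycDprod W₁ W₂) {x y : G} (hx : x ∈ W₁) (hy : y ∈ W₂) :
    x * y ∈ W₁ ↔ y = 1 := by
  refine ⟨fun h' => ?_, fun h' => by rw [h', mul_one]; exact hx⟩
  exact (mul_eq_mul_of_disjoint h.disjoint hx h' hy (one_mem _) (mul_one _).symm).2

theorem mul_mem₂_iff (h : CycDprod W₁ W₂) {x y : G} (hx : x ∈ W₁) (hy : y ∈ W₂) :
    x * y ∈ W₂ ↔ x = 1 := by
  refine ⟨fun h' => ?_, fun h' => by rw [h', one_mul]; exact hy⟩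
  exact (mul_eq_mul_of_disjoint h.disjoint hx (one_mem _) hy h' (one_mul _).symm).1

theorem mem_cycV (h : CycDprod W₁ W₂) {g : G} :
    g ∈ cycV W₁ W₂ ↔ ∃ x ∈ W₁, x ≠ 1 ∧ ∃ y ∈ W₂, y ≠ 1 ∧ g = x * y := by
  rw [mem_cycV_iff, h.mem_sup]
  constructor
  · rintro ⟨⟨x, hx, y, hy, rfl⟩, h1, h2⟩
    rw [h.mul_mem₁_iff hx hy] at h1
    rw [h.mul_mem₂_iff hx hy] at h2
    exact ⟨x, hx, h2, y, hy, h1, rfl⟩
  · rintro ⟨x, hx, h2, y, hy, h1, rfl⟩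
    rw [h.mul_mem₁_iff hx hy, h.mul_mem₂_iff hx hy]
    exact ⟨⟨x, hx, y, hy, rfl⟩, h1, h2⟩

theorem mem_sup_not_mem (h : CycDprod W₁ W₂) {g : G} :
    (g ∈ W₁ ⊔ W₂ ∧ g ∉ W₂) ↔ ∃ x ∈ W₁, x ≠ 1 ∧ ∃ y ∈ W₂, g = x * y := by
  rw [h.mem_sup]
  constructor
  · rintro ⟨⟨x, hx, y, hy, rfl⟩, h2⟩
    rw [h.mul_mem₂_iff hx hy] at h2
    exact ⟨x, hx, h2, y, hy, rfl⟩
  · rintro ⟨x, hx, h2, y, hy, rfl⟩
    rw [h.mul_mem₂_iff hx hy]
    exact ⟨⟨x, hx, y, hy, rfl⟩, h2⟩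

theorem cycV_nonempty (h : CycDprod W₁ W₂) : (cycV W₁ W₂).Nonempty := by
  obtain ⟨x, hx, hx1⟩ := exists_mem_ne_one h.ne_bot₁
  obtain ⟨y, hy, hy1⟩ := exists_mem_ne_one h.ne_bot₂
  exact ⟨x * y, h.mem_cycV.mpr ⟨x, hx, hx1, y, hy, hy1, rfl⟩⟩

theorem comm_sup (h : CycDprod W₁ W₂) : ∀ a ∈ W₁ ⊔ W₂, ∀ b ∈ W₁ ⊔ W₂, a * b = b * a :=
  fun _ ha _ hb => mul_comm_of_comm (isMulCommutative_of_isCyclic h.cyclic) ha hb

theorem cyclic₁ (h : CycDprod W₁ W₂) : IsCyclic W₁ := isCyclic_of_le h.cyclic le_sup_left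

theorem cyclic₂ (h : CycDprod W₁ W₂) : IsCyclic W₂ := isCyclic_of_le h.cyclic le_sup_right

theorem card_sup (h : CycDprod W₁ W₂) : Nat.card ↥(W₁ ⊔ W₂) = Nat.card W₁ * Nat.card W₂ :=
  h.dprod.card_eq.symm

theorem coprime (h : CycDprod W₁ W₂) : (Nat.card W₁).Coprime (Nat.card W₂) := by
  have := h.finite₁
  have := h.finite₂
  have := h.cyclic
  let f : W₁ × W₂ →* ↥(W₁ ⊔ W₂) := MonoidHom.noncommCoprod (Subgroup.inclusion le_sup_left)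
    (Subgroup.inclusion le_sup_right) fun a b => Subtype.ext (h.comm a a.2 b b.2)
  have hf : Function.Injective f := by
    rintro ⟨x, y⟩ ⟨x', y'⟩ e
    obtain ⟨h1, h2⟩ := mul_eq_mul_of_disjoint h.disjoint x.2 x'.2 y.2 y'.2 (congrArg Subtype.val e)
    exact Prod.ext (Subtype.ext h1) (Subtype.ext h2)
  have := isCyclic_of_injective f hf
  exact coprime_card_of_isCyclic_prod W₁ W₂

theorem odd₁ (h : CycDprod W₁ W₂) : Odd (Nat.card W₁) := odd_card_of_le h.odd le_sup_left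

theorem odd₂ (h : CycDprod W₁ W₂) : Odd (Nat.card W₂) := odd_card_of_le h.odd le_sup_right

theorem three_le₁ (h : CycDprod W₁ W₂) : 3 ≤ Nat.card W₁ := by
  have := h.finite₁
  have h1 : Nat.card W₁ ≠ 1 := fun h1 => h.ne_bot₁ (Subgroup.card_eq_one.mp h1)
  obtain ⟨k, hk⟩ := h.odd₁
  omega

theorem three_le₂ (h : CycDprod W₁ W₂) : 3 ≤ Nat.card W₂ := h.symm.three_le₁

theorem card_ne (h : CycDprod W₁ W₂) : Nat.card W₁ ≠ Nat.card W₂ := by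
  intro e
  have h1 := h.coprime
  have h2 := h.three_le₁
  rw [← e, Nat.coprime_self] at h1
  omega

theorem card_cycV (h : CycDprod W₁ W₂) :
    Nat.card (cycV W₁ W₂) = (Nat.card W₁ - 1) * (Nat.card W₂ - 1) := by
  have := h.finite₁
  have := h.finite₂
  have key : ∀ W : Subgroup G, Finite W → Nat.card {x : W // x ≠ 1} = Nat.card W - 1 := by
    intro W _
    have := Fintype.ofFinite W
    rw [Nat.card_eq_fintype_card, Nat.card_eq_fintype_card, Fintype.card_subtype_compl,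
      Fintype.card_subtype_eq]
  rw [← key W₁ ‹_›, ← key W₂ ‹_›, ← Nat.card_prod]
  symm
  refine Nat.card_congr (Equiv.ofBijective (fun p => ⟨(p.1.1 : G) * p.2.1, h.mem_cycV.mpr
    ⟨_, p.1.1.2, fun e => p.1.2 (Subtype.ext e), _, p.2.1.2, fun e => p.2.2 (Subtype.ext e), rfl⟩⟩)
    ⟨?_, ?_⟩)
  · rintro ⟨x, y⟩ ⟨x', y'⟩ e
    obtain ⟨h1, h2⟩ := mul_eq_mul_of_disjoint h.disjoint x.1.2 x'.1.2 y.1.2 y'.1.2
      (congrArg Subtype.val e)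
    exact Prod.ext (Subtype.ext (Subtype.ext h1)) (Subtype.ext (Subtype.ext h2))
  · rintro ⟨g, hg⟩
    obtain ⟨x, hx, hx1, y, hy, hy1, rfl⟩ := h.mem_cycV.mp hg
    exact ⟨(⟨⟨x, hx⟩, fun e => hx1 (congrArg Subtype.val e)⟩,
      ⟨⟨y, hy⟩, fun e => hy1 (congrArg Subtype.val e)⟩), rfl⟩

theorem card_lin₁ (h : CycDprod W₁ W₂) : Nat.card (W₁ →* ℂˣ) = Nat.card W₁ := by
  have := h.finite₁
  exact Ch.card_monoidHom_units_of_comm' fun a b =>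
    Subtype.ext (h.comm_sup a (le_sup_left (a := W₁) a.2) b (le_sup_left (a := W₁) b.2))

theorem card_lin₂ (h : CycDprod W₁ W₂) : Nat.card (W₂ →* ℂˣ) = Nat.card W₂ := h.symm.card_lin₁

theorem inv_eq_self₁ (h : CycDprod W₁ W₂) (i : W₁ →* ℂˣ) : i⁻¹ = i ↔ i = 1 := by
  refine ⟨fun e => ?_, fun e => by rw [e, lc_inv_one]⟩
  ext x
  have h1 : i x ^ 2 = 1 := by
    have := DFunLike.congr_fun e x
    rw [MonoidHom.inv_apply] at this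
    rw [pow_two]
    nth_rewrite 1 [← this]
    exact inv_mul_cancel _
  have h2 : i x ^ Nat.card W₁ = 1 := by rw [← map_pow, pow_card_eq_one', map_one]
  have h3 : i x ^ Nat.gcd 2 (Nat.card W₁) = 1 := pow_gcd_eq_one.mpr ⟨h1, h2⟩
  rw [(Nat.coprime_two_left.mpr h.odd₁).gcd_eq_one, pow_one] at h3
  rw [h3]; rfl

theorem inv_eq_self₂ (h : CycDprod W₁ W₂) (j : W₂ →* ℂˣ) : j⁻¹ = j ↔ j = 1 := h.symm.inv_eq_self₁ j

theorem omega_symm (h : CycDprod W₁ W₂) (i : W₁ →* ℂˣ) (j : W₂ →* ℂˣ) :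
    omega j i = omega i j := by
  funext g
  by_cases hg : g ∈ W₁ ⊔ W₂
  · obtain ⟨x, hx, y, hy, rfl⟩ := h.mem_sup.mp hg
    rw [omega_mul h.disjoint i j ⟨x, hx⟩ ⟨y, hy⟩, h.comm x hx y hy,
      omega_mul h.symm.disjoint j i ⟨y, hy⟩ ⟨x, hx⟩, mul_comm]
  · rw [omega_of_not_mem i j hg, omega_of_not_mem j i (by rwa [sup_comm])]

theorem omega_of_mem₁ (h : CycDprod W₁ W₂) (i : W₁ →* ℂˣ) (j : W₂ →* ℂˣ) (x : W₁) :
    omega i j x = (i x : ℂ) := by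
  simpa using omega_mul h.disjoint i j x 1

theorem omega_of_mem₂ (h : CycDprod W₁ W₂) (i : W₁ →* ℂˣ) (j : W₂ →* ℂˣ) (y : W₂) :
    omega i j y = (j y : ℂ) := by
  simpa using omega_mul h.disjoint i j 1 y

theorem omega_one_one (h : CycDprod W₁ W₂) {g : G} (hg : g ∈ W₁ ⊔ W₂) :
    omega (1 : W₁ →* ℂˣ) (1 : W₂ →* ℂˣ) g = 1 := by
  obtain ⟨x, hx, y, hy, rfl⟩ := h.mem_sup.mp hg
  rw [omega_mul h.disjoint _ _ ⟨x, hx⟩ ⟨y, hy⟩]
  simp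

theorem omega_mul_omega (h : CycDprod W₁ W₂) (i i' : W₁ →* ℂˣ) (j j' : W₂ →* ℂˣ) :
    omega (i * i') (j * j') = omega i j * omega i' j' := by
  funext g
  rw [Pi.mul_apply]
  by_cases hg : g ∈ W₁ ⊔ W₂
  · obtain ⟨x, hx, y, hy, rfl⟩ := h.mem_sup.mp hg
    simp only [omega_mul h.disjoint _ _ ⟨x, hx⟩ ⟨y, hy⟩, MonoidHom.mul_apply, Units.val_mul]
    ring
  · simp only [omega_of_not_mem _ _ hg, mul_zero]

theorem omega_map_mul (h : CycDprod W₁ W₂) (i : W₁ →* ℂˣ) (j : W₂ →* ℂˣ) {a b : G}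
    (ha : a ∈ W₁ ⊔ W₂) (hb : b ∈ W₁ ⊔ W₂) : omega i j (a * b) = omega i j a * omega i j b := by
  obtain ⟨x, hx, y, hy, rfl⟩ := h.mem_sup.mp ha
  obtain ⟨x', hx', y', hy', rfl⟩ := h.mem_sup.mp hb
  have e : x * y * (x' * y') = (x * x') * (y * y') := by
    rw [mul_assoc, ← mul_assoc y, ← h.comm x' hx' y hy]; group
  rw [e, omega_mul h.disjoint _ _ ⟨x, hx⟩ ⟨y, hy⟩, omega_mul h.disjoint _ _ ⟨x', hx'⟩ ⟨y', hy'⟩]
  refine (omega_mul h.disjoint i j (⟨x, hx⟩ * ⟨x', hx'⟩) (⟨y, hy⟩ * ⟨y', hy'⟩)).trans ?_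
  simp only [map_mul, Units.val_mul]
  ring

theorem norm_omega (h : CycDprod W₁ W₂) (i : W₁ →* ℂˣ) (j : W₂ →* ℂˣ) {g : G}
    (hg : g ∈ W₁ ⊔ W₂) : ‖omega i j g‖ = 1 := by
  have := h.finite₁
  have := h.finite₂
  obtain ⟨x, hx, y, hy, rfl⟩ := h.mem_sup.mp hg
  rw [omega_mul h.disjoint _ _ ⟨x, hx⟩ ⟨y, hy⟩, norm_mul, Ch.norm_monoidHom_units,
    Ch.norm_monoidHom_units, mul_one]

theorem conjFun_omega (h : CycDprod W₁ W₂) (i : W₁ →* ℂˣ) (j : W₂ →* ℂˣ) :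
    conjFun (omega i j) = omega i⁻¹ j⁻¹ := by
  have := h.finite₁
  have := h.finite₂
  funext g
  rw [conjFun_apply]
  by_cases hg : g ∈ W₁ ⊔ W₂
  · obtain ⟨x, hx, y, hy, rfl⟩ := h.mem_sup.mp hg
    rw [omega_mul h.disjoint _ _ ⟨x, hx⟩ ⟨y, hy⟩, omega_mul h.disjoint _ _ ⟨x, hx⟩ ⟨y, hy⟩, map_mul,
      Ch.conj_monoidHom_units', Ch.conj_monoidHom_units']
  · simp only [omega_of_not_mem _ _ hg, map_zero]

theorem cfAut_omega (u : ℂ ≃+* ℂ) (i : W₁ →* ℂˣ) (j : W₂ →* ℂˣ) :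
    cfAut u (omega i j) = omega (linAut u i) (linAut u j) := by
  funext g
  simp only [cfAut_apply, omega]
  split_ifs <;> simp

/-- `ω_ij` as a homomorphism on `W`. -/
noncomputable def omegaHom (h : CycDprod W₁ W₂) (i : W₁ →* ℂˣ) (j : W₂ →* ℂˣ) :
    ↥(W₁ ⊔ W₂) →* ℂˣ :=
  MonoidHom.toHomUnits
    { toFun := fun w => omega i j w
      map_one' := by simpa using h.omega_of_mem₁ i j 1
      map_mul' := fun a b => h.omega_map_mul i j a.2 b.2 }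

theorem lin_omegaHom (h : CycDprod W₁ W₂) (i : W₁ →* ℂˣ) (j : W₂ →* ℂˣ) :
    lin (h.omegaHom i j) = resG (W₁ ⊔ W₂) (omega i j) := rfl

theorem omegaHom_apply (h : CycDprod W₁ W₂) (i : W₁ →* ℂˣ) (j : W₂ →* ℂˣ) (w : ↥(W₁ ⊔ W₂)) :
    (h.omegaHom i j w : ℂ) = omega i j w := rfl

theorem omegaHom_restrict (h : CycDprod W₁ W₂) (φ : ↥(W₁ ⊔ W₂) →* ℂˣ) :
    h.omegaHom (φ.comp (Subgroup.inclusion le_sup_left))
      (φ.comp (Subgroup.inclusion le_sup_right)) = φ := by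
  ext ⟨g, hg⟩
  obtain ⟨x, hx, y, hy, rfl⟩ := h.mem_sup.mp hg
  rw [omegaHom_apply, omega_mul h.disjoint _ _ ⟨x, hx⟩ ⟨y, hy⟩, ← Units.val_mul,
    MonoidHom.comp_apply, MonoidHom.comp_apply, ← map_mul]
  rfl

theorem omegaHom_eq_iff (h : CycDprod W₁ W₂) {i i' : W₁ →* ℂˣ} {j j' : W₂ →* ℂˣ} :
    h.omegaHom i j = h.omegaHom i' j' ↔ i = i' ∧ j = j' := by
  refine ⟨fun e => ⟨?_, ?_⟩, fun e => by rw [e.1, e.2]⟩
  · ext x
    have := congrArg Units.val (DFunLike.congr_fun e (Subgroup.inclusion le_sup_left x))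
    rwa [omegaHom_apply, omegaHom_apply, Subgroup.coe_inclusion, h.omega_of_mem₁,
      h.omega_of_mem₁] at this
  · ext y
    have := congrArg Units.val (DFunLike.congr_fun e (Subgroup.inclusion le_sup_right y))
    rwa [omegaHom_apply, omegaHom_apply, Subgroup.coe_inclusion, h.omega_of_mem₂,
      h.omega_of_mem₂] at this

theorem omegaHom_one_one (h : CycDprod W₁ W₂) : h.omegaHom 1 1 = 1 := by
  ext w
  rw [omegaHom_apply, h.omega_one_one w.2]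
  rfl

theorem omegaHom_mul (h : CycDprod W₁ W₂) (i i' : W₁ →* ℂˣ) (j j' : W₂ →* ℂˣ) :
    h.omegaHom (i * i') (j * j') = h.omegaHom i j * h.omegaHom i' j' := by
  ext w
  rw [omegaHom_apply, h.omega_mul_omega]
  rfl

theorem omegaHom_bijective (h : CycDprod W₁ W₂) :
    Function.Bijective (fun p : (W₁ →* ℂˣ) × (W₂ →* ℂˣ) => h.omegaHom p.1 p.2) :=
  ⟨fun _ _ e => Prod.ext (h.omegaHom_eq_iff.mp e).1 (h.omegaHom_eq_iff.mp e).2,
    fun φ => ⟨(_, _), h.omegaHom_restrict φ⟩⟩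

theorem omega_irr (h : CycDprod W₁ W₂) (i : W₁ →* ℂˣ) (j : W₂ →* ℂˣ) :
    IsIrrCharacter ↥(W₁ ⊔ W₂) (resG (W₁ ⊔ W₂) (omega i j)) :=
  Ch.isIrrCharacter_monoidHom_units (h.omegaHom i j)

theorem exists_eq_omega (h : CycDprod W₁ W₂) {θ : ↥(W₁ ⊔ W₂) → ℂ}
    (hθ : IsIrrCharacter ↥(W₁ ⊔ W₂) θ) : ∃ i j, θ = resG (W₁ ⊔ W₂) (omega (W₁ := W₁) (W₂ := W₂) i j) := by
  obtain ⟨φ, rfl⟩ := hθ.exists_monoidHom_of_comm fun a b => Subtype.ext (h.comm_sup a a.2 b b.2)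
  obtain ⟨⟨i, j⟩, rfl⟩ := h.omegaHom_bijective.2 φ
  exact ⟨i, j, rfl⟩

theorem classInner_omega [Finite G] (h : CycDprod W₁ W₂) (i i' : W₁ →* ℂˣ) (j j' : W₂ →* ℂˣ) :
    classInner (resG (W₁ ⊔ W₂) (omega i j)) (resG (W₁ ⊔ W₂) (omega i' j')) =
      if i = i' ∧ j = j' then 1 else 0 := by
  have := Ch.classInner_monoidHom_units (h.omegaHom i j) (h.omegaHom i' j')
  simp only [h.omegaHom_eq_iff] at this
  convert this <;> rfl

/-- Fourier expansion on `W`. -/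
theorem eq_sum_omega [Finite G] (h : CycDprod W₁ W₂) (φ : ↥(W₁ ⊔ W₂) → ℂ) :
    φ = ∑ i : W₁ →* ℂˣ, ∑ j : W₂ →* ℂˣ,
      classInner φ (resG (W₁ ⊔ W₂) (omega i j)) • resG (W₁ ⊔ W₂) (omega i j) := by
  funext w
  rw [Ch.eq_sum_monoidHom_of_comm (fun a b => Subtype.ext (h.comm_sup a a.2 b b.2)) φ w,
    ← Fintype.sum_prod_type', Finset.sum_apply]
  exact (Function.Bijective.sum_comp h.omegaHom_bijective
    fun f => classInner φ (fun x => (f x : ℂ)) * f w).symm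

end CycDprod

namespace CycTI

theorem normalizer_eq (h : CycTI W₁ W₂) {X : Set G} (hX : X ⊆ cycV W₁ W₂) (hne : X.Nonempty) :
    Subgroup.normalizer X = W₁ ⊔ W₂ := h.sn.2.2.2.2.2 X hX hne

theorem centralizer_eq (h : CycTI W₁ W₂) {v : G} (hv : v ∈ cycV W₁ W₂) :
    Subgroup.centralizer ({v} : Set G) = W₁ ⊔ W₂ := by
  rw [← h.normalizer_eq (X := {v}) (Set.singleton_subset_iff.mpr hv) (Set.singleton_nonempty v)]
  ext g
  rw [mem_cent_elt, Subgroup.mem_set_normalizer_iff]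
  constructor
  · intro e x
    simp only [Set.mem_singleton_iff]
    constructor
    · rintro rfl
      rw [e]; group
    · intro e'
      have : g * x * g⁻¹ = g * v * g⁻¹ := by rw [e', e]; group
      simpa using this
  · intro e
    have := (e v).mp rfl
    rw [Set.mem_singleton_iff] at this
    calc g * v = g * v * g⁻¹ * g := by group
      _ = v * g := by rw [this]

/-- The TI property of `V`. -/
theorem mem_of_conj_mem (h : CycTI W₁ W₂) {v g : G} (hv : v ∈ cycV W₁ W₂)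
    (hg : g * v * g⁻¹ ∈ cycV W₁ W₂) : g ∈ W₁ ⊔ W₂ := by
  have hN : g ∈ 𝐍(W₁ ⊔ W₂) := by
    rw [mem_normalizer_iff_cj]
    nth_rewrite 1 [← h.centralizer_eq hv]
    rw [cj_centralizer_elt, h.centralizer_eq hg]
  have h1 := norm_le_norm_of_isCyclic h.dprod.cyclic (le_sup_left : W₁ ≤ W₁ ⊔ W₂) hN
  have h2 := norm_le_norm_of_isCyclic h.dprod.cyclic (le_sup_right : W₂ ≤ W₁ ⊔ W₂) hN
  rw [← h.normalizer_eq le_rfl h.dprod.cycV_nonempty, Subgroup.mem_set_normalizer_iff]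
  intro x
  rw [mem_cycV_iff, mem_cycV_iff, ← Subgroup.mem_normalizer_iff.mp hN x,
    ← Subgroup.mem_normalizer_iff.mp h1 x, ← Subgroup.mem_normalizer_iff.mp h2 x]

theorem isTISubset (h : CycTI W₁ W₂) : IsTISubset (cycV W₁ W₂) := by
  intro g hg x hx hx'
  rw [h.normalizer_eq le_rfl h.dprod.cycV_nonempty] at hg
  exact absurd (h.mem_of_conj_mem hx hx') hg

theorem dadeHypothesis (h : CycTI W₁ W₂) :
    DadeHypothesis (cycV W₁ W₂) (W₁ ⊔ W₂) (fun _ => ⊥) := by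
  refine ⟨one_not_mem_cycV, fun a ha => (mem_cycV_iff.mp ha).1, fun x hx a ha => ?_,
    fun a ha g hg => ⟨g, h.mem_of_conj_mem ha hg, rfl⟩, fun _ _ => bot_le, fun a _ c _ u hu => ?_,
    fun _ _ => bot_inf_eq _, fun a ha => ?_, fun _ _ _ _ => by simp⟩
  · rw [h.dprod.comm_sup x hx a (mem_cycV_iff.mp ha).1]
    simpa using ha
  · rw [Subgroup.mem_bot] at hu ⊢
    rw [hu]; group
  · rw [bot_sup_eq, h.centralizer_eq ha, inf_idem]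

/-- The number of conjugates of elements of `V`. -/
theorem card_classSupport_cycV [Finite G] (h : CycTI W₁ W₂) :
    Nat.card (classSupport (cycV W₁ W₂) ⊤) * (Nat.card W₁ * Nat.card W₂) =
      Nat.card G * ((Nat.card W₁ - 1) * (Nat.card W₂ - 1)) := by
  have := Fintype.ofFinite G
  have e := h.dadeHypothesis.sum_dadeSupport (IsClassFunction.const (G := G) 1)
  have e1 : ∑ g ∈ Finset.univ.filter (· ∈ dadeSupport (cycV W₁ W₂) fun _ => ⊥), (1 : ℂ) =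
      Nat.card (classSupport (cycV W₁ W₂) ⊤) := by
    rw [Finset.sum_const, nsmul_eq_mul, mul_one, Nat.card_eq_fintype_card, Fintype.card_subtype]
    congr 2
    ext g
    simp only [Finset.mem_filter, Finset.mem_univ, true_and]
    constructor
    · rintro ⟨a, ha, u, hu, x, hx⟩
      rw [Subgroup.mem_bot.mp hu, mul_one] at hx
      exact ⟨x⁻¹, trivial, a, ha, by rw [← hx]; group⟩
    · rintro ⟨x, -, a, ha, rfl⟩
      exact ⟨a, ha, 1, one_mem _, x⁻¹, by group⟩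
  have e2 : ∑ a : ↥(W₁ ⊔ W₂), invDade (cycV W₁ W₂) (W₁ ⊔ W₂) (fun _ => ⊥) (fun _ => (1 : ℂ)) a =
      Nat.card (cycV W₁ W₂) := by
    have : ∀ a : ↥(W₁ ⊔ W₂), invDade (cycV W₁ W₂) (W₁ ⊔ W₂) (fun _ => ⊥) (fun _ => (1 : ℂ)) a =
        (fun g : G => if g ∈ cycV W₁ W₂ then (1 : ℂ) else 0) a := by
      intro a
      by_cases ha : (a : G) ∈ cycV W₁ W₂
      · rw [invDade_apply_of_mem _ _ ha, inv_card_mul_sum_const]
        simp [ha]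
      · rw [invDade_suppOn _ _ ha]
        simp [ha]
    rw [Finset.sum_congr rfl fun a _ => this a, sum_subgroup_eq_ite (W₁ ⊔ W₂)
      fun g : G => if g ∈ cycV W₁ W₂ then (1 : ℂ) else 0, Nat.card_eq_fintype_card,
      Fintype.card_subtype, Finset.card_filter, Nat.cast_sum]
    refine Finset.sum_congr rfl fun g _ => ?_
    by_cases hg : g ∈ cycV W₁ W₂
    · simp [hg, (mem_cycV_iff.mp hg).1]
    · simp [hg]
  rw [e1, e2, h.dprod.card_cycV, h.dprod.card_sup] at e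
  have hG : (Nat.card G : ℂ) ≠ 0 := Nat.cast_ne_zero.mpr Nat.card_pos.ne'
  have hW : ((Nat.card W₁ * Nat.card W₂ : ℕ) : ℂ) ≠ 0 :=
    Nat.cast_ne_zero.mpr (mul_ne_zero Nat.card_pos.ne' Nat.card_pos.ne')
  rw [inv_mul_eq_div, inv_mul_eq_div, div_eq_div_iff hG hW] at e
  exact_mod_cast e.trans (mul_comm _ _)

end CycTI

end Cfsg.Agent.FT
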