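import Mathlib
import Cfsg.Agent.FT.PF3Defs
import Cfsg.Agent.FT.PF3Comb
import Cfsg.Agent.Ch.Decomp

/-! # Signed irreducible characters; families attached to an abelian TI-subgroup -/

set_option autoImplicit false

namespace Cfsg.Agent.FT

open Cfsg Classical
open scoped ComplexConjugate

universe u

section Dirr

variable {G : Type u} [Group G] {φ ψ : G → ℂ}

theorem IsDirr.of_irr (h : IsIrrCharacter G φ) : IsDirr G φ := Or.inl h

theorem IsDirr.neg (h : IsDirr G φ) : IsDirr G (-φ) :=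
  h.elim (fun h => Or.inr (by rwa [neg_neg])) Or.inl

theorem IsDirr.vchar (h : IsDirr G φ) : IsGeneralizedCharacter G φ :=
  h.elim (fun h => h.isGeneralizedCharacter) fun h => by
    simpa using h.isGeneralizedCharacter.neg

theorem IsDirr.isClassFunction (h : IsDirr G φ) : IsClassFunction G φ := h.vchar.isClassFunction

theorem IsDirr.apply_one_ne_zero (h : IsDirr G φ) : φ 1 ≠ 0 :=
  h.elim (fun h => h.apply_one_ne_zero) fun h => by simpa using h.apply_one_ne_zero

theorem IsDirr.conjFun [Finite G] (h : IsDirr G φ) : IsDirr G (conjFun φ) :=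
  h.elim (fun h => Or.inl h.conjFun) fun h => Or.inr (by rw [← conjFun_neg]; exact h.conjFun)

theorem isDirr_one : IsDirr G (fun _ => 1) := Or.inl (Ch.isIrrCharacter_monoidHom_units 1)

theorem IsDirr.exists_sign (h : IsDirr G φ) :
    ∃ (e : ℤ) (χ : G → ℂ), (e = 1 ∨ e = -1) ∧ IsIrrCharacter G χ ∧ φ = (e : ℂ) • χ := by
  rcases h with h | h
  · exact ⟨1, φ, Or.inl rfl, h, by simp⟩
  · exact ⟨-1, -φ, Or.inr rfl, h, by simp⟩

theorem isDirr_sign_smul {e : ℤ} (he : e = 1 ∨ e = -1) (h : IsDirr G φ) :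
    IsDirr G ((e : ℂ) • φ) := by
  rcases he with rfl | rfl
  · simpa using h
  · simpa using h.neg

variable [Fintype G]

theorem IsDirr.norm (h : IsDirr G φ) : classInner φ φ = 1 :=
  h.elim (fun h => h.classInner_self) fun h => by
    simpa [cin_neg_left, cin_neg_right] using h.classInner_self

theorem isDirr_of_norm_one (h : IsGeneralizedCharacter G φ) (h1 : classInner φ φ = 1) :
    IsDirr G φ := h.irr_or_neg_irr_of_norm_one h1

theorem IsDirr.cases (h : IsDirr G φ) (h' : IsDirr G ψ) :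
    classInner φ ψ = 0 ∨ φ = ψ ∨ φ = -ψ := by
  by_cases h0 : classInner φ ψ = 0
  · exact Or.inl h0
  right
  rcases h with h | h <;> rcases h' with h' | h'
  · exact Or.inl (h.eq_of_classInner_ne_zero h' h0)
  · exact Or.inr (h.eq_of_classInner_ne_zero h' (by simpa [cin_neg_right] using h0))
  · exact Or.inr (neg_eq_iff_eq_neg.mp
      (h.eq_of_classInner_ne_zero h' (by simpa [cin_neg_left] using h0)))
  · exact Or.inl (neg_injective
      (h.eq_of_classInner_ne_zero h' (by simpa [cin_neg_left, cin_neg_right] using h0)))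

theorem IsDirr.eq_of_cin_one (h : IsDirr G φ) (h' : IsDirr G ψ) (h1 : classInner φ ψ = 1) :
    φ = ψ := by
  rcases h.cases h' with e | e | e
  · rw [e] at h1; exact absurd h1 zero_ne_one
  · exact e
  · rw [e, cin_neg_left, h'.norm] at h1; norm_num at h1

/-- A nonzero virtual character of norm at most `3` has a constituent of multiplicity `± 1`. -/
theorem exists_dirr_of_norm_le (h : IsGeneralizedCharacter G φ) {n : ℤ} (hn : classInner φ φ = n)
    (h0 : 0 < n) (h3 : n ≤ 3) : ∃ x, IsDirr G x ∧ classInner φ x = 1 := by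
  obtain ⟨m, h1, -, h2⟩ := h.exists_mult
  have e : ∑ χ, m χ ^ 2 = n := by exact_mod_cast h2.symm.trans hn
  obtain ⟨χ, -, hχ⟩ := Finset.exists_ne_zero_of_sum_ne_zero (e ▸ h0.ne' : ∑ χ, m χ ^ 2 ≠ 0)
  have hle : m χ ^ 2 ≤ n :=
    e ▸ Finset.single_le_sum (f := fun χ => m χ ^ 2) (fun _ _ => sq_nonneg _) (Finset.mem_univ χ)
  have hm : m χ = 1 ∨ m χ = -1 := by
    have : m χ ≠ 0 := fun h => hχ (by rw [h]; rfl)
    have h4 : -2 < m χ := by nlinarith
    have h5 : m χ < 2 := by nlinarith
    omega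
  rcases hm with hm | hm
  · exact ⟨χ, Or.inl χ.2, by rw [h1, hm]; simp⟩
  · exact ⟨-χ, (IsDirr.of_irr χ.2).neg, by rw [cin_neg_right, h1, hm]; simp⟩

theorem exists_dirr_split (h : IsGeneralizedCharacter G φ) {n : ℤ} (hn : classInner φ φ = n)
    (h0 : 0 < n) (h3 : n ≤ 3) : ∃ x, IsDirr G x ∧ classInner (φ - x) x = 0 ∧
      classInner (φ - x) (φ - x) = (n - 1 : ℤ) ∧
      ∀ y, IsDirr G y → classInner φ y = 0 → classInner x y = 0 ∧ classInner (φ - x) y = 0 := by
  obtain ⟨x, hx, h1⟩ := exists_dirr_of_norm_le h hn h0 h3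
  have h2 : classInner x φ = 1 := by rw [← cin_conj, h1, map_one]
  refine ⟨x, hx, by rw [cin_sub_left, h1, hx.norm, sub_self], ?_, fun y hy hy0 => ?_⟩
  · rw [cin_sub_left, cin_sub_right, cin_sub_right, hn, h1, h2, hx.norm]
    push_cast; ring
  · have : classInner x y = 0 := by
      rcases hx.cases hy with e | e | e
      · exact e
      · rw [e, hy0] at h1; exact absurd h1 zero_ne_one
      · rw [e, cin_neg_right, hy0, neg_zero] at h1; exact absurd h1 zero_ne_one
    exact ⟨this, by rw [cin_sub_left, hy0, this, sub_zero]⟩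

theorem exists_dirr_of_norm_two (h : IsGeneralizedCharacter G φ) (hn : classInner φ φ = 2) :
    ∃ x y, IsDirr G x ∧ IsDirr G y ∧ classInner x y = 0 ∧ φ = x + y := by
  obtain ⟨x, hx, h1, h2, -⟩ := exists_dirr_split h (n := 2) (by simpa using hn) (by norm_num)
    (by norm_num)
  exact ⟨x, φ - x, hx, isDirr_of_norm_one (h.sub hx.vchar) (by simpa using h2),
    cin_eq_zero_comm h1, by abel⟩

theorem exists_dirr_of_norm_three (h : IsGeneralizedCharacter G φ) (hn : classInner φ φ = 3) :
    ∃ x y z, IsDirr G x ∧ IsDirr G y ∧ IsDirr G z ∧ classInner x y = 0 ∧ classInner x z = 0 ∧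
      classInner y z = 0 ∧ φ = x + y + z := by
  obtain ⟨x, hx, h1, h2, -⟩ := exists_dirr_split h (n := 3) (by simpa using hn) (by norm_num)
    (by norm_num)
  obtain ⟨y, hy, h3, h4, h5⟩ := exists_dirr_split (h.sub hx.vchar) h2 (by norm_num) (by norm_num)
  exact ⟨x, y, φ - x - y, hx, hy, isDirr_of_norm_one ((h.sub hx.vchar).sub hy.vchar)
    (by simpa using h4), cin_eq_zero_comm (h5 x hx h1).1, cin_eq_zero_comm (h5 x hx h1).2,
    cin_eq_zero_comm h3, by abel⟩

variable (G) in
/-- The virtual characters as an additive subgroup. -/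
def vcharSub : AddSubgroup (G → ℂ) where
  carrier := {θ | IsGeneralizedCharacter G θ}
  add_mem' := IsGeneralizedCharacter.add
  zero_mem' := IsGeneralizedCharacter.zero
  neg_mem' := IsGeneralizedCharacter.neg

/-- The inner product of two virtual characters as an integer. -/
noncomputable def zin (a b : vcharSub G) : ℤ :=
  (IsGeneralizedCharacter.exists_int_classInner a.2 b.2).choose

theorem zin_cast (a b : vcharSub G) : (zin a b : ℂ) = classInner (a : G → ℂ) b :=
  (IsGeneralizedCharacter.exists_int_classInner a.2 b.2).choose_spec.symm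

theorem zin_eq_iff {a b : vcharSub G} {n : ℤ} : zin a b = n ↔ classInner (a : G → ℂ) b = n := by
  rw [← zin_cast, Int.cast_inj]

theorem zin_eq_zero {a b : vcharSub G} : zin a b = 0 ↔ classInner (a : G → ℂ) b = 0 := by
  rw [zin_eq_iff, Int.cast_zero]

theorem zin_eq_one {a b : vcharSub G} : zin a b = 1 ↔ classInner (a : G → ℂ) b = 1 := by
  rw [zin_eq_iff, Int.cast_one]

variable (G) in
/-- The lattice of virtual characters with its signed irreducible characters. -/
noncomputable def vcharLat : SgnLat (vcharSub G) where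
  ip := zin
  D := {x | IsDirr G x}
  add_left a b c := by
    rw [zin_eq_iff, Int.cast_add, zin_cast, zin_cast, AddSubgroup.coe_add, cin_add_left]
  symm a b := by
    rw [zin_eq_iff, zin_cast]
    exact IsGeneralizedCharacter.classInner_comm a.2 b.2
  norm x hx := zin_eq_one.mpr (IsDirr.norm hx)
  neg_mem x hx := IsDirr.neg hx
  tri x hx y hy := by
    rcases IsDirr.cases hx hy with h | h | h
    · exact Or.inl (zin_eq_zero.mpr h)
    · exact Or.inr (Or.inl (Subtype.ext h))
    · exact Or.inr (Or.inr (Subtype.ext h))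

theorem vcharLat_tri {b : vcharSub G} (h : classInner (b : G → ℂ) b = 3) : (vcharLat G).Tri b := by
  obtain ⟨x, y, z, hx, hy, hz, h1, h2, h3, e⟩ := exists_dirr_of_norm_three b.2 h
  exact ⟨⟨x, hx.vchar⟩, ⟨y, hy.vchar⟩, ⟨z, hz.vchar⟩, hx, hy, hz, zin_eq_zero.mpr h1,
    zin_eq_zero.mpr h2, zin_eq_zero.mpr h3, Subtype.ext e⟩

end Dirr

section Fam

variable {G : Type u} [Group G] [Fintype G] {V : Set G} {W : Subgroup G}
  {χ : (W →* ℂˣ) → G → ℂ}

/-- The linear map sending each linear character `ω` of `W` to `χ ω`. -/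
noncomputable def famSigma (χ : (W →* ℂˣ) → G → ℂ) : (W → ℂ) →ₗ[ℂ] (G → ℂ) where
  toFun φ := ∑ ω : W →* ℂˣ, classInner φ (lin ω) • χ ω
  map_add' φ ψ := by simp only [cin_add_left, add_smul, Finset.sum_add_distrib]
  map_smul' c φ := by simp only [cin_smul_left, mul_smul, RingHom.id_apply, Finset.smul_sum]

theorem famSigma_apply (φ : W → ℂ) :
    famSigma χ φ = ∑ ω : W →* ℂˣ, classInner φ (lin ω) • χ ω := rfl

theorem cin_lin {H : Type*} [Group H] [Fintype H] (ω ω' : H →* ℂˣ) :
    classInner (lin ω) (lin ω') = if ω = ω' then 1 else 0 := by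
  convert Ch.classInner_monoidHom_units ω ω' <;> rfl

theorem famSigma_lin (ω : W →* ℂˣ) : famSigma χ (lin ω) = χ ω := by
  rw [famSigma_apply, Finset.sum_eq_single ω]
  · rw [cin_lin, if_pos rfl, one_smul]
  · intro ω' _ h
    rw [cin_lin, if_neg h.symm, zero_smul]
  · exact fun h => absurd (Finset.mem_univ _) h

theorem eq_sum_lin (hc : ∀ a b : W, a * b = b * a) (φ : W → ℂ) :
    φ = ∑ ω : W →* ℂˣ, classInner φ (lin ω) • lin ω := by
  funext w
  rw [Finset.sum_apply]
  exact Ch.eq_sum_monoidHom_of_comm hc φ w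

theorem cin_famSigma (ho : ∀ ω ω', classInner (χ ω) (χ ω') = if ω = ω' then 1 else 0)
    (φ : W → ℂ) (ω : W →* ℂˣ) : classInner (famSigma χ φ) (χ ω) = classInner φ (lin ω) := by
  simp only [famSigma_apply, cin_sum_left, cin_smul_left, ho, mul_ite, mul_one, mul_zero,
    Finset.sum_ite_eq', Finset.mem_univ, if_true]

theorem famSigma_isometry (hc : ∀ a b : W, a * b = b * a)
    (ho : ∀ ω ω', classInner (χ ω) (χ ω') = if ω = ω' then 1 else 0) (φ ψ : W → ℂ) :
    classInner (famSigma χ φ) (famSigma χ ψ) = classInner φ ψ := by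
  conv_rhs => rw [eq_sum_lin hc ψ]
  rw [famSigma_apply ψ, cin_sum_right, cin_sum_right]
  exact Finset.sum_congr rfl fun ω _ => by rw [cin_smul_right, cin_smul_right, cin_famSigma ho]

theorem cin_indFun_of_ti (hD : DadeHypothesis V W fun _ => ⊥) (hc : ∀ a b : W, a * b = b * a)
    {φ ψ : W → ℂ} (hφ : SuppOn φ V) (hψ : SuppOn ψ V) :
    classInner (indFun W φ) (indFun W ψ) = classInner φ ψ := by
  rw [← hD.dade_eq_indFun (fun _ _ => rfl) (IsClassFunction.of_comm hc φ) hφ,
    ← hD.dade_eq_indFun (fun _ _ => rfl) (IsClassFunction.of_comm hc ψ) hψ]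
  exact hD.dade_isometry (IsClassFunction.of_comm hc φ) hφ (IsClassFunction.of_comm hc ψ) hψ

/-- An orthonormal family of class functions extending the linear characters of the abelian
normaliser `W` of the TI-subset `V` on `V`. -/
structure TIFam (V : Set G) (W : Subgroup G) (χ : (W →* ℂˣ) → G → ℂ) : Prop where
  dade : DadeHypothesis V W fun _ => ⊥
  comm : ∀ a b : W, a * b = b * a
  cls : ∀ ω, IsClassFunction G (χ ω)
  orth : ∀ ω ω', classInner (χ ω) (χ ω') = if ω = ω' then 1 else 0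
  eq_on : ∀ ω (w : W), (w : G) ∈ V → χ ω w = ω w

namespace TIFam

theorem sigma_cls (F : TIFam V W χ) (φ : W → ℂ) : IsClassFunction G (famSigma χ φ) :=
  IsClassFunction.sum fun ω _ => (F.cls ω).smul _

theorem sigma_apply_of_mem (F : TIFam V W χ) (φ : W → ℂ) (w : W) (hw : (w : G) ∈ V) :
    famSigma χ φ w = φ w := by
  conv_rhs => rw [eq_sum_lin F.comm φ]
  rw [famSigma_apply, Finset.sum_apply, Finset.sum_apply]
  exact Finset.sum_congr rfl fun ω _ => by simp [F.eq_on ω w hw]

theorem sigma_eq_indFun (F : TIFam V W χ) {φ : W → ℂ} (hφ : SuppOn φ V) :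
    famSigma χ φ = indFun W φ := by
  have h1 : classInner (indFun W φ) (famSigma χ φ) = classInner φ φ := by
    rw [Ch.classInner_indFun_left W φ (F.sigma_cls φ)]
    refine Ch.classInner_congr_right fun w hw => F.sigma_apply_of_mem φ w ?_
    by_contra h
    exact hw (hφ w h)
  have h2 : classInner (famSigma χ φ) (indFun W φ) = classInner φ φ := by
    rw [← cin_conj, h1, cin_conj]
  rw [← sub_eq_zero, ← cin_self_eq_zero, cin_sub_left, cin_sub_right, cin_sub_right, h1, h2,
    famSigma_isometry F.comm F.orth, cin_indFun_of_ti F.dade F.comm hφ hφ]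
  ring

theorem cin_sigma_eq_zero (F : TIFam V W χ) {θ : G → ℂ} (hθ : IsClassFunction G θ)
    (hV : ∀ v ∈ V, θ v = 0) {φ : W → ℂ} (hφ : SuppOn φ V) : classInner θ (famSigma χ φ) = 0 := by
  rw [F.sigma_eq_indFun hφ, Ch.classInner_indFun_right W φ hθ]
  refine Ch.classInner_eq_zero_of_disjoint fun w => ?_
  by_cases hw : (w : G) ∈ V
  · exact Or.inl (hV w hw)
  · exact Or.inr (hφ w hw)

theorem vanish (F : TIFam V W χ) {θ : G → ℂ} (hθ : IsClassFunction G θ)
    (ho : ∀ ω, classInner θ (χ ω) = 0) {v : G} (hv : v ∈ V) : θ v = 0 := by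
  let φ : W → ℂ := fun w => if (w : G) ∈ V then θ w else 0
  have hφ : SuppOn φ V := fun w hw => if_neg hw
  have h1 : classInner θ (famSigma χ φ) = 0 := by
    simp only [famSigma_apply, cin_sum_right, cin_smul_right, ho, mul_zero, Finset.sum_const_zero]
  have h2 : classInner φ φ = 0 := by
    rw [F.sigma_eq_indFun hφ, Ch.classInner_indFun_right W φ hθ] at h1
    rw [← h1]
    refine Ch.classInner_congr_left fun w hw => if_pos ?_
    by_contra h
    exact hw (hφ w h)
  have := congrFun (cin_self_eq_zero.mp h2) ⟨v, F.dade.subset hv⟩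
  simpa [φ, hv] using this

theorem apply_eq_sum (F : TIFam V W χ) {θ : G → ℂ} (hθ : IsClassFunction G θ) (w : W)
    (hw : (w : G) ∈ V) : θ w = ∑ ω : W →* ℂˣ, classInner θ (χ ω) * ω w := by
  have h := F.vanish (θ := θ - ∑ ω : W →* ℂˣ, classInner θ (χ ω) • χ ω)
    (hθ.sub (IsClassFunction.sum fun ω _ => (F.cls ω).smul _)) (fun ω => by
      simp only [cin_sub_left, cin_sum_left, cin_smul_left, F.orth, mul_ite, mul_one, mul_zero,
        Finset.sum_ite_eq', Finset.mem_univ, if_true, sub_self]) hw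
  rw [Pi.sub_apply, sub_eq_zero, Finset.sum_apply] at h
  rw [h]
  exact Finset.sum_congr rfl fun ω _ => by simp [F.eq_on ω w hw]

end TIFam

end Fam

section SelfNorm

variable {G : Type u} [Group G] {W₁ W₂ : Subgroup G}

theorem sn_comm (hW : IsSelfNormalizingCyclic W₁ W₂) (a b : ↥(W₁ ⊔ W₂)) : a * b = b * a :=
  Subtype.ext (mul_comm_of_comm (isMulCommutative_of_isCyclic hW.2.2.2.2.1) a.2 b.2)

theorem sn_cycV_nonempty (hW : IsSelfNormalizingCyclic W₁ W₂) : (cycV W₁ W₂).Nonempty := by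
  obtain ⟨x, hx, hx1⟩ := exists_mem_ne_one hW.1
  obtain ⟨y, hy, hy1⟩ := exists_mem_ne_one hW.2.1
  refine ⟨x * y, mem_cycV_iff.mpr ⟨Subgroup.mul_mem_sup hx hy, fun h => hy1 ?_, fun h => hx1 ?_⟩⟩
  · exact (mul_eq_mul_of_disjoint hW.2.2.1 hx h hy (one_mem _) (mul_one _).symm).2
  · exact (mul_eq_mul_of_disjoint hW.2.2.1 hx (one_mem _) hy h (one_mul _).symm).1

theorem sn_centralizer_eq (hW : IsSelfNormalizingCyclic W₁ W₂) {v : G} (hv : v ∈ cycV W₁ W₂) :
    𝐂[v] = W₁ ⊔ W₂ := by
  rw [← hW.2.2.2.2.2 {v} (Set.singleton_subset_iff.mpr hv) (Set.singleton_nonempty v)]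
  ext g
  rw [mem_cent_elt, Subgroup.mem_set_normalizer_iff]
  constructor
  · intro e x
    simp only [Set.mem_singleton_iff]
    constructor
    · rintro rfl
      rw [e]; group
    · intro e'
      have : g * x * g⁻¹ = g * v * g⁻¹ := by rw [e', e]; group
      simpa using this
  · intro e
    have := (e v).mp rfl
    rw [Set.mem_singleton_iff] at this
    calc g * v = g * v * g⁻¹ * g := by group
      _ = v * g := by rw [this]

theorem sn_dade (hW : IsSelfNormalizingCyclic W₁ W₂) :
    DadeHypothesis (cycV W₁ W₂) (W₁ ⊔ W₂) (fun _ => ⊥) := by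
  have key : ∀ v g : G, v ∈ cycV W₁ W₂ → g * v * g⁻¹ ∈ cycV W₁ W₂ → g ∈ W₁ ⊔ W₂ := by
    intro v g hv hg
    have hN : g ∈ 𝐍(W₁ ⊔ W₂) := by
      rw [mem_normalizer_iff_cj]
      nth_rewrite 1 [← sn_centralizer_eq hW hv]
      rw [cj_centralizer_elt, sn_centralizer_eq hW hg]
    have h1 := norm_le_norm_of_isCyclic hW.2.2.2.2.1 (le_sup_left : W₁ ≤ W₁ ⊔ W₂) hN
    have h2 := norm_le_norm_of_isCyclic hW.2.2.2.2.1 (le_sup_right : W₂ ≤ W₁ ⊔ W₂) hN
    rw [← hW.2.2.2.2.2 (cycV W₁ W₂) le_rfl (sn_cycV_nonempty hW), Subgroup.mem_set_normalizer_iff]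
    intro x
    rw [mem_cycV_iff, mem_cycV_iff, ← Subgroup.mem_normalizer_iff.mp hN x,
      ← Subgroup.mem_normalizer_iff.mp h1 x, ← Subgroup.mem_normalizer_iff.mp h2 x]
  refine ⟨one_not_mem_cycV, fun a ha => (mem_cycV_iff.mp ha).1, fun x hx a ha => ?_,
    fun a ha g hg => ⟨g, key a g ha hg, rfl⟩, fun _ _ => bot_le, fun a _ c _ u hu => ?_,
    fun _ _ => bot_inf_eq _, fun a ha => ?_, fun _ _ _ _ => by simp⟩
  · have := congrArg Subtype.val (sn_comm hW ⟨x, hx⟩ ⟨a, (mem_cycV_iff.mp ha).1⟩)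
    simp only [Subgroup.coe_mul] at this
    rw [this]
    simpa using ha
  · rw [Subgroup.mem_bot] at hu ⊢
    rw [hu]; group
  · rw [bot_sup_eq, sn_centralizer_eq hW ha, inf_idem]

theorem tiFam_of_family [Fintype G] (hW : IsSelfNormalizingCyclic W₁ W₂)
    {χ : (↥(W₁ ⊔ W₂) →* ℂˣ) → G → ℂ} (hχ : IsCyclicTIFamily W₁ W₂ χ) :
    TIFam (cycV W₁ W₂) (W₁ ⊔ W₂) χ :=
  ⟨sn_dade hW, sn_comm hW, fun ω => IsDirr.isClassFunction (hχ.irr_or_neg ω),
    fun ω ω' => by convert hχ.orthonormal ω ω',
    fun ω w hw => hχ.eq_on ω w (mem_cycV_iff.mp hw).2.1 (mem_cycV_iff.mp hw).2.2⟩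

end SelfNorm

/-- The counting argument of (3.8). -/
theorem small_support {I J : Type*} [Fintype I] [Fintype J] (a : I → J → ℂ)
    (hex : ∀ i i' j j', a i j + a i' j' = a i j' + a i' j)
    (hmn : Fintype.card I + 2 ≤ Fintype.card J ∨ Fintype.card J + 2 ≤ Fintype.card I)
    (hN : (Finset.univ.filter fun p : I × J => a p.1 p.2 ≠ 0).card <
      2 * min (Fintype.card I) (Fintype.card J)) {i₀ : I} {j₀ : J} (h0 : a i₀ j₀ ≠ 0) :
    (∀ i j, a i j = if j = j₀ then a i₀ j₀ else 0) ∨
      (∀ i j, a i j = if i = i₀ then a i₀ j₀ else 0) := by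
  by_cases hc : ∀ i i' j, a i j = a i' j
  · left
    intro i j
    split_ifs with hj
    · rw [hj, hc i i₀]
    · by_contra hne
      have : (Finset.univ : Finset I) ×ˢ ({j, j₀} : Finset J) ⊆
          Finset.univ.filter fun p : I × J => a p.1 p.2 ≠ 0 := by
        rintro ⟨k, l⟩ hp
        simp only [Finset.mem_product, Finset.mem_univ, Finset.mem_insert, Finset.mem_singleton,
          true_and] at hp
        simp only [Finset.mem_filter, Finset.mem_univ, true_and]
        rcases hp with rfl | rfl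
        · rwa [hc k i]
        · rwa [hc k i₀]
      have := Finset.card_le_card this
      rw [Finset.card_product, Finset.card_pair hj, Finset.card_univ] at this
      omega
  by_cases hr : ∀ i j j', a i j = a i j'
  · right
    intro i j
    split_ifs with hi
    · rw [hi, hr i₀ j j₀]
    · by_contra hne
      have : ({i, i₀} : Finset I) ×ˢ (Finset.univ : Finset J) ⊆
          Finset.univ.filter fun p : I × J => a p.1 p.2 ≠ 0 := by
        rintro ⟨k, l⟩ hp
        simp only [Finset.mem_product, Finset.mem_univ, Finset.mem_insert, Finset.mem_singleton,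
          and_true] at hp
        simp only [Finset.mem_filter, Finset.mem_univ, true_and]
        rcases hp with rfl | rfl
        · rwa [hr k l j]
        · rwa [hr k l j₀]
      have := Finset.card_le_card this
      rw [Finset.card_product, Finset.card_pair hi, Finset.card_univ] at this
      omega
  exfalso
  push Not at hc hr
  obtain ⟨i₁, i₂, j', hc⟩ := hc
  obtain ⟨i', j₁, j₂, hr⟩ := hr
  have h12 : i₁ ≠ i₂ := fun h => hc (by rw [h])
  let N : I → ℕ := fun i => (Finset.univ.filter fun j => a i j ≠ 0).card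
  have e : (Finset.univ.filter fun p : I × J => a p.1 p.2 ≠ 0).card = ∑ i, N i := by
    simp only [N, Finset.card_filter]
    rw [Fintype.sum_prod_type]
  have n1 : ∀ i, 1 ≤ N i := fun i => by
    refine Finset.card_pos.mpr ?_
    by_cases h1 : a i j₁ = 0
    · refine ⟨j₂, Finset.mem_filter.mpr ⟨Finset.mem_univ _, fun h2 => hr ?_⟩⟩
      have := hex i i' j₁ j₂
      rw [h1, h2] at this
      simpa using this.symm
    · exact ⟨j₁, Finset.mem_filter.mpr ⟨Finset.mem_univ _, h1⟩⟩
  have n2 : Fintype.card J ≤ N i₁ + N i₂ := by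
    refine le_trans (Finset.card_le_card ?_) (Finset.card_union_le _ _)
    intro j _
    simp only [Finset.mem_union, Finset.mem_filter, Finset.mem_univ, true_and]
    by_contra h
    push Not at h
    have := hex i₁ i₂ j j'
    rw [h.1, h.2] at this
    exact hc (by simpa using this.symm)
  have e2 : ∑ i, N i = N i₁ + N i₂ + ∑ i ∈ Finset.univ \ {i₁, i₂}, N i := by
    rw [← Finset.sum_pair h12, add_comm, Finset.sum_sdiff (Finset.subset_univ _)]
  have n3 : (Finset.univ \ {i₁, i₂}).card ≤ ∑ i ∈ Finset.univ \ {i₁, i₂}, N i := by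
    rw [Finset.card_eq_sum_ones]
    exact Finset.sum_le_sum fun i _ => n1 i
  rw [Finset.card_univ_sdiff, Finset.card_pair h12] at n3
  have n4 : 2 ≤ Fintype.card I := by
    rw [← Finset.card_pair h12]
    exact Finset.card_le_univ _
  omega

end Cfsg.Agent.FT
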